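import Cfsg.Agent.Lib.Chev.Aut
import Cfsg.Agent.Lib.Chev.InstE7

/-! Steinberg relations and graph automorphisms for type E7 (generated tables). -/

set_option autoImplicit false
set_option maxRecDepth 100000

namespace CA.Chev

open Cfsg.Lie CA.CG

theorem chkDecE7 : chkDec chevE7 tabE7 0x7c5d7d207d1f7d1e7d1d7d1c7d1b7d1a7d197d187d177d167d157d147d137d127d117d107d0f7d0e7d0d7d0c7d0b7d0a7d097d087d077d067d057d047d037d027d017c107c0f7c0e7c0d7c0c7c0b7c0a7c097c087c077b0a7b097b087b077a077c067c057c047c037c027b067b057b047b037a067a057a047906790578067705780477047903780377037a027902780277027b017a017901780177017603760275027402730276017501740173017201710170016f016e016d017c007b007a0079007800770076007500740073007200710070006f006e006d006c006b006a0069006800670066006500640063006200610060005f005e005d002001 = true := by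
  decide +kernel

instance isDecE7 : IsDec chevE7 := isDec_of_chk agreeE7 chkDecE7

end CA.Chev
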