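import Cfsg.Agent.Lib.Chev.Aut
import Cfsg.Agent.Lib.Chev.InstE8

/-! Steinberg relations and graph automorphisms for type E8 (generated tables). -/

set_option autoImplicit false
set_option maxRecDepth 100000

namespace CA.Chev

open Cfsg.Lie CA.CG

theorem chkDecE8 : chkDec chevE8 tabE8 0xee78ef77ef75ef72ef6eef69ef63ef5def58ef54ef51ef4fef4eee4eef47ef42ef3eef3bef39ef38ee38ef34ef31ef2fef2eee2eef2bef29ef28ee28ef26ef25ee25ef24ee24ed24ef21ef1fef1eee1eef1cef1bee1bef1aee1aed1aef18ef17ee17ef16ee16ed16ef15ee15ed15ec15ef13ef12ee12ef11ee11ed11ef10ee10ed10ec10ef0fee0fed0fec0feb0fef0eee0eed0eec0eeb0eea0ee90eef0cef0bee0bef0aee0aed0aef09ee09ed09ec09ef08ee08ed08ec08eb08ef07ee07ed07ec07eb07ea07ef06ee06ed06ec06eb06ea06ef05ee05ed05ec05eb05ef04ee04ed04ec04ef03ee03ed03ef02ee02ef01ee00ed01ed00ec02ec01ec00eb03eb02eb01eb00ea04ea03ea02ea01ea00e905e904e903e902e901e900e805e804e803e802e801e800e704e703e702e701e700e603e602e601e600e502e501e500e401e400e300e106e105e104e103e102e101e100e004e003e002e001e000df03df02df01df00de02de01de00dd01dd00dc00da03da02da01da00d902d901d900d801d800d700d502d501d500d401d400d300d101d100d000ce00cb02cb01cb00ca01ca00c900c701c700c600c400c101c100c000be00bb00b701b700b600b400b100ad00a800a101a100a0009e009b00970092008c00860081007d007a0078007701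 = true := by
  decide +kernel

instance isDecE8 : IsDec chevE8 := isDec_of_chk agreeE8 chkDecE8

end CA.Chev
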