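import Cfsg.Agent.Lib.Chev.Minus
import Cfsg.Agent.Lib.Chev.AutE6
import Cfsg.Prelude.Def_E6

/-! The cubic form in 27 variables: its polar forms and the root elements preserving it. -/

set_option autoImplicit false
set_option maxRecDepth 100000

namespace CA.E6C

open Cfsg.Lie CA.Chev Matrix

/-- the monomials of the cubic form -/
def L45 : List (ℕ × ℕ × ℕ × ℤ) :=
  [(0, 4, 8, 1), (0, 5, 7, -1), (1, 3, 8, -1), (1, 5, 6, 1), (2, 3, 7, 1), (2, 4, 6, -1), (9, 13, 17, 1), (9, 14, 16, -1), (10, 12, 17, -1), (10, 14, 15, 1), (11, 12, 16, 1), (11, 13, 15, -1), (18, 22, 26, 1), (18, 23, 25, -1), (19, 21, 26, -1), (19, 23, 24, 1), (20, 21, 25, 1), (20, 22, 24, -1), (0, 9, 18, -1), (0, 10, 21, -1), (0, 11, 24, -1), (1, 12, 18, -1), (1, 13, 21, -1), (1, 14, 24, -1), (2, 15, 18, -1), (2, 16, 21, -1), (2, 17, 24, -1), (3, 9, 19, -1), (3, 10, 22, -1), (3, 11, 25, -1), (4, 12, 19, -1), (4, 13, 22, -1), (4, 14, 25, -1), (5, 15, 19, -1), (5, 16, 22, -1), (5, 17, 25, -1), (6, 9, 20, -1), (6, 10, 23, -1), (6, 11, 26, -1), (7, 12, 20, -1), (7, 13, 23, -1), (7,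 14, 26, -1), (8, 15, 20, -1), (8, 16, 23, -1), (8, 17, 26, -1)]

/-- the third index of the monomial through `a`, `b` -/
def tri (a b : ℕ) : ℕ := getF 0x12982b640007000c0045cb000000000004814a82e50008000c000001172c00000009d016b8040004000000000000045cb04a6000018c810001c003020d5000000012050000601a014002000300000835400027400000ce8001000100000000000020d502b6063200000040007000cf6240000000a82f806800000050008000c0003d8900016b833a000000004000400000000000f625051000000000000095018dd0019003000000041440000000240b601d7002c00540000000001051000052c0d7028004c00900072040000000025400000f8034006400c000001c810000902c0003c1105c00b001500000000072054b0000084400a00130024030c00000000018d03e0000000d001900300000c300000601cf0440000017002c0054000000030c0d70211000000028004c00944008000f00357a00000000000000080647000d0018000000d5e800000000002180ab00140024000000000357a000008804280110020003c19b4c00000000002000006381c00340060000066d300000008000180802c00500090000000019b4c22000003a000044008000fc56400000000064018e0000007000d001800031590000180a6020000000b001400240000000c5644280e800000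 5 31 (Nat.add (Nat.mul a 27) b)
/-- the coefficient of the monomial through `a`, `b`, or zero -/
def tsg (a b : ℕ) : ℤ := Int.subNatNat (getF 0x156121451405555469051455405558491451555404956114510155645464514550152558514515550184955145005551a45545145405612555145155400155556121451550155469051455550158491451405554956114515405645464514555402558514510155584955145150151a45545145550212555145051450155556121451550155469051455550158494514405554956114515405645464514555402558545140155584955145150151a4554514555021255 2 3 (Nat.add (Nat.mul a 27) b)) 1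
/-- the column of the entry in row `k` of the root vector `r` -/
def src (r k : ℕ) : ℕ := getF 0x80e0000000000004ec00000002c110000000000000000001183c0001c00200010000000000000000016a48000000e001000080000000101c0005b200000000120780000000101c000000098320000000281000000090000000000000a5c0002c11000000000078000002200000000020b001700000000100022000000000000003300280000000012000000580200080000000b00170000002800580000002000800000130028000000c8016002600000000000000020800000000000000900005f400000903c0000000000000900000000a03400014080000000000000078010000000002006400d0000000000000900141000400000000320068000001a002e0050000000000002080000000021c00000000000004aa000000000005822f0000004400000003000700000a801600200044000000000000300070001200260024000000b00007001000000000000a80165000b000000000700100000000001200279002c004c0000000000000000041cc0002f6a8000000008800e0016000000000000527200000000008800e001600000000000000c00000000000000009d80003a2000002020000000004ec0000000000002dc0000000000021c00002b80000000000001207800021c0000000048180000000000028100000f0020000000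300070000006000c80000012002800380080000000000003000640f00000044000000300080a8000002e0002000440000000000030009200000050000000000000000000001183cc000c000000048000001600100028000000150000005c0a001600000001000280000024000000a000000017b540f00180024000000000000000149c80000010001a0028000000000000000000000600000002d90000063c000000000006000000000004c190000d8000000000000000016a48000000000200028002000000004045b2000000000000012c000000004040000983200000000000029a000000180000000000000002977440000000000450000000014b8000000005b800000000018000000700000000010016002e00000003400700000000000000102600500000000001e0040000006001000c0000003400000002400500800140000000060000001a0000000359c3c006000900000000000000000359c00008000d0014000000000000001a002e00500000000000002906000000000000000000c0000000be80c78000000000000000c000000000014069b000000000000000000045be800000000012c000000000000045000140680000000029a0000000000000180034000000010000c801a00000c0015002400000000000000000000041cc330000000000000000012a80000000e880a800000000009540000000000000000b730000000e00006000000200000015002c06800e000000000600000020000024004c00c0015002400000000000000000000520c0000000198000000005700000000018f0000019800000000000090300000000360000000000a80570000000000000000002580000a80000090300000000000000000534000300068006000000200000000c00190018000000700030000001400a8000002e003400700000000300000014120000005000000000000000000001cd600c000c0000000000000000e6b0000000002000280020000003000680600000028000c000000340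 5 31 (Nat.add (Nat.mul r 27) k)
/-- the entry in row `k` of the root vector `r`, plus one -/
def sgN (r k : ℕ) : ℕ := getF 0x91555549556455555554056596555555501559659556454955591554655519554655255555256455551559565194555651555652515551559945559455651559455651551451555556a55555254956455555855519519555559456516515555652515559455451455556a555855555615555185565559455945945555594565145565651555594945556515556505145555555a95a9555145155556a5555145155551955555585615645554955554955558558555551952555645555645651559455651559459455555946554554599551516555545a55455555555409659515596515545566515565155155955406596555555405565965555555645552552555645555645495555550155565965551a1555558555195195555615495555552255552555495552555515591559651554595595511655559455945155955459165556554555a85145555555a95145155555451455555a95555552555249555552555564255555552255552555552564555495555516955151655145155555555a895555554955492555525555554a554565545545994555455655945145155555556a555255549555255255555915549555249555555495255915555552565145565559459551655459551651554556455655555555019659555540555659655651155951559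 2 3 (Nat.add (Nat.mul r 27) k)
/-- the basis vectors moved by the root `r` -/
def mv (r a : ℕ) : ℕ := getF 0x94110400e024800074924082824120904248204861400181b0003180140c0603019240003c8082128220825806000f000303490000704c112018a03000780600600b800181b00920070071240001e48000948082121241090414810504906030180c001e0051400c0170018007009228028c00a06180e0920003a480090241050490208000f24480260882094104920048904824180a00a061801680c00c5000630e012401c04900248001c4809009822401320048920812126003005248038009901201224900605140018c28049000e09048241052048240264041094818018a00a05028028c050001c1240038925003028 1 1 (Nat.add (Nat.mul r 27) a)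
/-- the root moving `a` to `b` -/
def rt (a b : ℕ) : ℕ := getF 0x2ae0b00005c000004888078ec01426000007441c9900619007a00b00005c0003e7804486011217441c800001585543c5000000b00005c0070c016ac00244190061585540000062000002ae1200004801c780211400740000104dbf521130062019007a012003e01744011d1005f04dbf000003618d0000623c500000120700356806e2400e521133618d000000c000046000002ae089c00ee1002674000000201a7ca01a500c000046019007a79700871c0215e0201a7c000006a2d98000c0000463c5000c3402c6e0040e00a01a56a2d980000000000d54406ca608062c2300009c00000761005f1c00e6ed5440000002b32e8b004602300009c00026ec021860042c6ca60ab32e8000005d2000002300009c014780114400256800000583343021b020000062c0100007401c5e0170e003458334000000a008000200b00460010026008a100784000c3021b0a008000000000025d200000011400491003e2400700000334af9a267e800008a0000062c211c011d7006e340334af800000a8c3900800008a00b0046ec880867802c0c01a267ea8c39000000000800008a5d20078480443e0168700006ae0018f000e7c00000a9a330a305800281900003c00000de380590c02d88a9a33000002b6cd63008a01900003c0001cbc00842004a20a305ab6cd4000009c1000001900003c68038180110e009000000c264a002032a00000028050000dc0425801dad00f0c264a0000032a54002a023008a005001c00e88004c480280020332a540000000002a9c100000052e3800f11007c90000000397ef881b34e00007a0000002823c2010dd8088f00397ef800000ea0c000e00007a023008abce80424c022280081b34ea0c0000000000e00007a9c100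 7 127 (Nat.add (Nat.mul a 27) b)
/-- the order in which the basis vectors are fixed -/
def steps : List ℕ := [0, 1, 2, 9, 18, 12, 15, 3, 7, 5, 6, 4, 8, 19, 20, 10, 14, 16, 11, 13, 17, 21, 22, 23, 24, 25, 26]
/-- the entry in row `k` of the root vector `r` -/
def sg (r k : ℕ) : ℤ := Int.subNatNat (sgN r k) 1

/-! ### coordinates -/

/-- the index with a given number -/
def dec (n : ℕ) : I27 := (⟨n / 9 % 3, by omega⟩, ⟨n / 3 % 3, by omega⟩, ⟨n % 3, by omega⟩)
/-- the number of an index -/
def enc (i : I27) : ℕ := 9 * i.1 + 3 * i.2.1 + i.2.2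

theorem dec_enc : ∀ i : I27, dec (enc i) = i := by decide
theorem enc_lt : ∀ i : I27, enc i < 27 := by decide
theorem enc_dec : ∀ n < 27, enc (dec n) = n := by decide
theorem dec_inj {a b : ℕ} (ha : a < 27) (hb : b < 27) : dec a = dec b ↔ a = b :=
  ⟨fun h => by rw [← enc_dec a ha, h, enc_dec b hb], fun h => h ▸ rfl⟩

variable {F : Type*} [Field F]

/-- the coordinate functions -/
def cv (n : ℕ) : (I27 → F) →ₗ[F] F := LinearMap.proj (dec n)
/-- the basis vectors -/
def ev (n : ℕ) : I27 → F := Pi.single (dec n) 1

theorem cv_ev {a b : ℕ} (ha : a < 27) (hb : b < 27) : cv b (ev a : I27 → F) = if b = a then 1 else 0 := by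
  simp only [cv, ev, LinearMap.proj_apply, Pi.single_apply, dec_inj hb ha]

theorem ext_cv {v w : I27 → F} (h : ∀ n < 27, cv n v = cv n w) : v = w := funext fun i => by
  simpa [cv, dec_enc] using h _ (enc_lt i)

/-- the trilinear form of a list of monomials -/
def tril (L : List (ℕ × ℕ × ℕ × ℤ)) : (I27 → F) →ₗ[F] (I27 → F) →ₗ[F] (I27 → F) →ₗ[F] F :=
  (L.map fun t => (t.2.2.2 : F) • (cv t.1).smulRight ((cv t.2.1).smulRight (cv t.2.2.1))).sum

theorem tril_apply (L : List (ℕ × ℕ × ℕ × ℤ)) (u v w : I27 → F) :
    tril L u v w = (L.map fun t => (t.2.2.2 : F) * (cv t.1 u * cv t.2.1 v * cv t.2.2.1 w)).sum := by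
  induction L with
  | nil => rfl
  | cons t L ih =>
    simp only [tril, List.map_cons, List.sum_cons, LinearMap.add_apply] at ih ⊢
    rw [ih]; simp [mul_assoc]

theorem cubicT_eq (v : I27 → F) : cubicT v = tril L45 v v v := by
  simp only [tril_apply, L45, cv, dec, LinearMap.proj_apply, List.map_cons, List.map_nil, List.sum_cons,
    List.sum_nil, cubicT, det_fin_three, mat3, trace, Matrix.mul_apply, Fin.sum_univ_three, diag_apply,
    of_apply, Nat.reduceDiv, Nat.reduceMod, Fin.zero_eta, Fin.mk_one, Fin.reduceFinMk]
  push_cast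
  ring

/-- the first polar form -/
def Qf (v w : I27 → F) : F := tril L45 v v w + tril L45 v w v + tril L45 w v v
/-- the symmetric trilinear form -/
def ff (u v w : I27 → F) : F := tril L45 u v w + tril L45 u w v + tril L45 v u w + tril L45 v w u +
  tril L45 w u v + tril L45 w v u

theorem ff_swap (u v w : I27 → F) : ff u v w = ff u w v := by unfold ff; ring

theorem ff_eq (u v w : I27 → F) : ff u v w = cubicT (u + v + w) - cubicT (u + v) - cubicT (u + w) -
    cubicT (v + w) + cubicT u + cubicT v + cubicT w := by
  simp only [ff, cubicT_eq, map_add, LinearMap.add_apply]; ring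

theorem Qf_eq (a : F) (v w : I27 → F) : (a ^ 2 - a) * Qf v w = cubicT (a • v + w) - a * cubicT (v + w) -
    (a ^ 3 - a) * cubicT v - (1 - a) * cubicT w := by
  simp only [Qf, cubicT_eq, map_add, map_smul, LinearMap.add_apply, LinearMap.smul_apply, smul_eq_mul]; ring

theorem Qf_add (a : F) (u v w : I27 → F) : Qf (a • u + v) w = a ^ 2 * Qf u w + a * ff u v w + Qf v w := by
  simp only [Qf, ff, map_add, map_smul, LinearMap.add_apply, LinearMap.smul_apply, smul_eq_mul]; ring

/-- all orderings of the monomials -/
def P6 (L : List (ℕ × ℕ × ℕ × ℤ)) : List (ℕ × ℕ × ℕ × ℤ) := L.flatMap fun t =>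
  [t, (t.1, t.2.2.1, t.2.1, t.2.2.2), (t.2.1, t.1, t.2.2.1, t.2.2.2), (t.2.2.1, t.1, t.2.1, t.2.2.2),
    (t.2.1, t.2.2.1, t.1, t.2.2.2), (t.2.2.1, t.2.1, t.1, t.2.2.2)]

theorem ff_eq_tril (u v w : I27 → F) : ff u v w = tril (P6 L45) u v w := by
  simp only [ff, tril_apply, P6]
  induction L45 with
  | nil => simp
  | cons t L ih =>
    simp only [List.map_cons, List.sum_cons, List.flatMap_cons, List.map_append, List.sum_append, ← ih,
      List.map_nil, List.sum_nil]
    ring

theorem chk_P6 : ∀ t ∈ P6 L45, t.1 < 27 ∧ t.2.1 < 27 ∧ tsg t.1 t.2.1 ≠ 0 := by decide +kernel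

theorem chk_P6' : allLt (fun a => allLt (fun b => decide (
    ((P6 L45).filter fun t => Nat.beq t.1 a).filter (fun t => Nat.beq t.2.1 b) =
      if tsg a b = 0 then [] else [(a, b, tri a b, tsg a b)])) 27) 27 = true := by decide +kernel

theorem chk_L45 : ∀ t ∈ L45, t.1 < 27 ∧ t.2.1 < 27 ∧ t.2.2.1 < 27 ∧ t.1 ≠ t.2.1 ∧ t.1 ≠ t.2.2.1 ∧
    t.2.1 ≠ t.2.2.1 ∧ ∀ p < 27, tsg p t.1 = 0 ∨ tsg p t.2.1 = 0 ∨ tsg p t.2.2.1 = 0 := by decide +kernel

theorem chk_tri : ∀ a < 27, tsg a a = 0 ∧ ∀ b < 27, tsg a b = 0 ∨
    ((tsg a b = 1 ∨ tsg a b = -1) ∧ tri a b < 27 ∧ tsg a (tri a b) ≠ 0 ∧ tri a (tri a b) = b) := by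
  decide +kernel

theorem tsg_ne_zero {a b : ℕ} (ha : a < 27) (hb : b < 27) (h : tsg a b ≠ 0) : (tsg a b : F) ≠ 0 := by
  rcases (((chk_tri a ha).2 b hb).resolve_left h).1 with e | e <;> simp [e]

theorem ff_ev_ev {a b : ℕ} (ha : a < 27) (hb : b < 27) (w : I27 → F) :
    ff (ev a) (ev b) w = tsg a b * cv (tri a b) w := by
  have key : ∀ L : List (ℕ × ℕ × ℕ × ℤ), (∀ t ∈ L, t.1 < 27 ∧ t.2.1 < 27) → tril L (ev a) (ev b) w =
      (((L.filter fun t => Nat.beq t.1 a).filter fun t => Nat.beq t.2.1 b).map
        fun t => (t.2.2.2 : F) * cv t.2.2.1 w).sum := by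
    intro L hL
    rw [tril_apply]
    induction L with
    | nil => rfl
    | cons t L ih =>
      obtain ⟨h1, h2⟩ := hL t List.mem_cons_self
      rw [List.map_cons, List.sum_cons, ih fun t ht => hL t (List.mem_cons_of_mem _ ht), cv_ev ha h1,
        cv_ev hb h2]
      by_cases e1 : t.1 = a <;> by_cases e2 : t.2.1 = b <;> simp [e1, e2]
  rw [ff_eq_tril, key _ fun t ht => ⟨(chk_P6 t ht).1, (chk_P6 t ht).2.1⟩,
    of_decide_eq_true (allLt_iff.1 (allLt_iff.1 chk_P6' a ha) b hb)]
  split_ifs with h <;> simp [h]

theorem ff_ev_eq_zero {a : ℕ} (ha : a < 27) {v : I27 → F} (hv : ∀ k < 27, tsg a k ≠ 0 → cv k v = 0)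
    (w : I27 → F) : ff (ev a) v w = 0 := by
  rw [ff_eq_tril, tril_apply]
  refine List.sum_eq_zero fun x hx => ?_
  obtain ⟨t, ht, rfl⟩ := List.mem_map.1 hx
  obtain ⟨h1, h2, h3⟩ := chk_P6 t ht
  rw [cv_ev ha h1]
  split_ifs with e
  · simp [hv _ h2 (e ▸ h3)]
  · simp

theorem tril_eq_zero {u v w : I27 → F}
    (h : ∀ t ∈ L45, cv t.1 u * cv t.2.1 v * cv t.2.2.1 w = 0) : tril L45 u v w = 0 := by
  rw [tril_apply]
  refine List.sum_eq_zero fun x hx => ?_
  obtain ⟨t, ht, rfl⟩ := List.mem_map.1 hx
  rw [h t ht, mul_zero]

theorem Qf_ev {m : ℕ} (hm : m < 27) (w : I27 → F) : Qf (ev m) w = 0 := by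
  rw [Qf, tril_eq_zero, tril_eq_zero, tril_eq_zero, add_zero, add_zero]
  all_goals
    intro t ht
    obtain ⟨h1, h2, h3, h4, h5, h6, -⟩ := chk_L45 t ht
    simp only [cv_ev hm h1, cv_ev hm h2, cv_ev hm h3]
    split_ifs <;> first | omega | simp

theorem Qf_far {p b : ℕ} (hp : p < 27) (hb : b < 27) (hpb : tsg p b ≠ 0) {v : I27 → F}
    (hv : ∀ k < 27, tsg p k = 0 → cv k v = 0) : Qf v (ev b) = 0 := by
  rw [Qf, tril_eq_zero, tril_eq_zero, tril_eq_zero, add_zero, add_zero]
  all_goals
    intro t ht
    obtain ⟨h1, h2, h3, -, -, -, h7⟩ := chk_L45 t ht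
    simp only [cv_ev hb h1, cv_ev hb h2, cv_ev hb h3]
    split_ifs with e
    · rcases h7 p hp with h | h | h <;>
        first | exact absurd (by rw [← e]; exact h) hpb | simp [hv _ h1 h] | simp [hv _ h2 h] | simp [hv _ h3 h]
    · simp

/-- A singular vector is determined by the coordinates near a non-zero one. -/
theorem eq_smul_ev {v : I27 → F} (hv : ∀ w, Qf v w = 0) {p : ℕ} (hp : p < 27) (h0 : cv p v ≠ 0)
    (h : ∀ k < 27, tsg p k = 0 → k ≠ p → cv k v = 0) : v = cv p v • ev p := by
  have h1 : ∀ k < 27, tsg p k = 0 → cv k (v - cv p v • ev p) = 0 := fun k hk e => by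
    rw [map_sub, map_smul, cv_ev hp hk]
    split_ifs with e'
    · simp [e']
    · simp [h k hk e e']
  rw [← sub_eq_zero]
  refine ext_cv fun k hk => ?_
  by_cases e : tsg p k = 0
  · simpa using h1 k hk e
  obtain ⟨-, b1, b2, b3⟩ := ((chk_tri p hp).2 k hk).resolve_left e
  have := Qf_add (cv p v) (ev p) (v - cv p v • ev p) (ev (tri p k))
  rw [add_sub_cancel, hv, Qf_ev hp, Qf_far hp b1 b2 h1, ff_swap, ff_ev_ev hp b1, b3] at this
  simpa [h0, tsg_ne_zero hp b1 b2] using this

/-! ### the root vectors -/

variable (F) in
/-- the root vectors -/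
def N (r : ℕ) : Matrix I27 I27 F := of fun k i => if i = dec (src r (enc k)) then (sg r (enc k) : F) else 0

theorem cv_N (r : ℕ) {n : ℕ} (hn : n < 27) (v : I27 → F) : cv n (N F r *ᵥ v) = sg r n * cv (src r n) v := by
  simp [cv, N, mulVec, dotProduct, enc_dec n hn]

theorem mat_ext {A B : Matrix I27 I27 F} (h : ∀ v, ∀ n < 27, cv n (A *ᵥ v) = cv n (B *ᵥ v)) : A = B :=
  toLin'.injective (LinearMap.ext fun v => ext_cv (h v))

/-- row `n` of `N r * N s` vanishes -/
noncomputable def z2 (r s n : ℕ) : Bool := bOr (Nat.beq (sgN r n) 1) (Nat.beq (sgN s (src r n)) 1)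

/-- row `n` of `N r * N s` is `c` times row `n` of `N k` -/
noncomputable def e21 (r s k n : ℕ) (c : ℤ) : Bool :=
  bAnd (Nat.beq (src s (src r n)) (src k n)) (zeq (Int.mul (sg r n) (sg s (src r n))) (Int.mul c (sg k n)))

/-- the check of the commutation relation -/
noncomputable def chkPair (r s : ℕ) : Bool :=
  List.rec (allLt (fun n => bOr (bAnd (z2 r s n) (z2 s r n))
      (bAnd (Nat.beq (src s (src r n)) (src r (src s n)))
        (zeq (Int.mul (sg r n) (sg s (src r n))) (Int.mul (sg s n) (sg r (src s n)))))) 27)
    (fun q _ _ => bAnd (Nat.ble q.1 71) (allLt (fun n => bAnd (bAnd (z2 r q.1 n) (z2 s q.1 n))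
      (bOr (bAnd (z2 s r n) (bOr (bAnd (z2 r s n) (Nat.beq (sgN q.1 n) 1)) (e21 r s q.1 n q.2)))
        (bAnd (z2 r s n) (e21 s r q.1 n (Int.neg q.2))))) 27)) (tabE6.ch r s)

theorem chk_pairs : allLt (fun r => allLt (fun s => bOr (Nat.beq s r) (bOr (Nat.beq (Nat.add s r) 71)
    (chkPair r s))) 72) 72 = true := by decide +kernel

theorem chk_single : ∀ r < 72, ∀ n < 27, src r n < 27 ∧ z2 r r n = true ∧ (sg r n = 0 ∨
    ((sg r n = 1 ∨ sg r n = -1) ∧ mv r (src r n) = 1 ∧ src (71 - r) (src r n) = n ∧
      sg (71 - r) (src r n) = sg r n)) := by decide +kernel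

theorem sg_of_beq {r n : ℕ} (h : sgN r n = 1) : sg r n = 0 := by rw [sg, h]; rfl

theorem cv_NN {r : ℕ} (hr : r < 72) (s : ℕ) {n : ℕ} (hn : n < 27) (v : I27 → F) :
    cv n ((N F r * N F s) *ᵥ v) = (sg r n * sg s (src r n) : ℤ) * cv (src s (src r n)) v := by
  rw [← mulVec_mulVec, cv_N r hn, cv_N s (chk_single r hr n hn).1]
  push_cast; ring

theorem z2_spec {r s n : ℕ} (h : z2 r s n = true) : sg r n * sg s (src r n) = 0 := by
  simp only [z2, bOr_eq, Bool.or_eq_true, Nat.beq_eq] at h
  rcases h with h | h <;> simp [sg_of_beq h]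

theorem N_sq (r : Rt chevE6) : N F r * N F r = 0 := mat_ext fun v n hn => by
  simp [cv_NN r.2 _ hn, z2_spec (chk_single r r.2 n hn).2.1]

theorem neg_val' (r : Rt chevE6) : (neg r : ℕ) = 71 - r := by
  have := isRootE6.neg_eq r
  change chevE6.neg r + r + 1 = 72 at this
  rw [neg_val]; omega

theorem N_neg (r : Rt chevE6) : N F r * (N F (neg r) * N F r) = N F r := mat_ext fun v n hn => by
  obtain ⟨h1, -, h2⟩ := chk_single r r.2 n hn
  rw [← mulVec_mulVec, cv_N _ hn, cv_N _ hn, cv_NN (neg r).2 _ h1, neg_val']
  rcases h2 with h | ⟨h, -, h3, h4⟩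
  · simp [h]
  · rw [h3, h4]
    rcases h with h | h <;> simp [h]

theorem N_comm (r s : Rt chevE6) (h1 : s ≠ r) (h2 : s ≠ neg r) :
    (chevE6.commTerms r s = [] ∧ N F s * N F r = N F r * N F s) ∨
      ∃ (k : Rt chevE6) (C : ℤ), chevE6.commTerms r s = [(k.1, C, 1, 1)] ∧
        N F s * N F r = N F r * N F s - (C : F) • N F k ∧ N F r * N F k = 0 ∧ N F s * N F k = 0 := by
  have h := allLt_iff.1 (allLt_iff.1 chk_pairs r r.2) s s.2
  simp only [bOr_eq, Bool.or_eq_true, Nat.beq_eq, Nat.add_eq] at h
  have h3 := (h.resolve_left fun e => h1 (Fin.ext e)).resolve_left fun e =>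
    h2 (Fin.ext (by rw [neg_val']; omega))
  have h4 := short_of_chk agreeE6 chkShortE6 r.2 s.2
  rw [commTerms_eq, commTermsF_short h4 (short_of_chk agreeE6 chkShortE6 s.2 r.2)]
  rw [agreeE6.entry r r.2 s s.2] at h4 ⊢
  unfold chkPair at h3
  rcases hl : tabE6.ch r s with _ | ⟨q, _ | ⟨q', l⟩⟩
  · simp only [hl, allLt_iff, bOr_eq, bAnd_eq, Bool.or_eq_true, Bool.and_eq_true, Nat.beq_eq, zeq_iff,
      Int.mul_def] at h3
    refine Or.inl ⟨rfl, mat_ext fun v n hn => ?_⟩
    rw [cv_NN r.2 _ hn, cv_NN s.2 _ hn]
    rcases h3 n hn with h | h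
    · simp [z2_spec h.1, z2_spec h.2]
    · rw [h.1, h.2]
  · simp only [hl, allLt_iff, bOr_eq, bAnd_eq, Bool.or_eq_true, Bool.and_eq_true, Nat.beq_eq, zeq_iff,
      Int.mul_def, e21, Nat.ble_eq] at h3
    refine Or.inr ⟨⟨q.1, Nat.lt_succ_of_le h3.1⟩, q.2, rfl, mat_ext fun v n hn => ?_,
      mat_ext fun v n hn => ?_, mat_ext fun v n hn => ?_⟩
    · rw [sub_mulVec, smul_mulVec, map_sub, map_smul, cv_NN r.2 _ hn, cv_NN s.2 _ hn, cv_N _ hn]
      rcases (h3.2 n hn).2 with ⟨h, h' | h'⟩ | ⟨h, h'⟩
      · simp [z2_spec h, z2_spec h'.1, sg_of_beq h'.2]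
      · rw [z2_spec h, h'.1, h'.2]; simp [mul_assoc]
      · rw [z2_spec h, h'.1, h'.2]; simp [mul_assoc, int_neg_def]
    · simp [cv_NN r.2 _ hn, z2_spec (h3.2 n hn).1.1]
    · simp [cv_NN s.2 _ hn, z2_spec (h3.2 n hn).1.2]
  · simp [hl] at h4

/-! ### invariance of the cubic form -/

/-- coefficient of a key in a formal sum -/
def coef (k : ℕ × List ℕ) : List ((ℕ × List ℕ) × ℤ) → ℤ
  | [] => 0
  | p :: l => if p.1 = k then p.2 + coef k l else coef k l

theorem sum_eq_zero_of_coef (f : ℕ × List ℕ → F) (l : List ((ℕ × List ℕ) × ℤ))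
    (h : ∀ p ∈ l, coef p.1 l = 0) : (l.map fun p => (p.2 : F) * f p.1).sum = 0 := by
  have key : ∀ (S : Finset (ℕ × List ℕ)) (l : List ((ℕ × List ℕ) × ℤ)), (∀ p ∈ l, p.1 ∈ S) →
      (l.map fun p => (p.2 : F) * f p.1).sum = ∑ k ∈ S, (coef k l : F) * f k := by
    intro S l h
    induction l with
    | nil => simp [coef]
    | cons p l ih =>
      rw [List.map_cons, List.sum_cons, ih fun q hq => h q (List.mem_cons_of_mem _ hq),
        ← Finset.sum_ite_eq_of_mem S p.1 (fun k => (p.2 : F) * f k) (h p List.mem_cons_self),
        ← Finset.sum_add_distrib]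
      refine Finset.sum_congr rfl fun k _ => ?_
      simp only [coef]
      split_ifs <;> simp [add_mul]
  rw [key (l.map Prod.fst).toFinset l fun p hp => List.mem_toFinset.2 (List.mem_map_of_mem hp)]
  refine Finset.sum_eq_zero fun k hk => ?_
  obtain ⟨p, hp, rfl⟩ := List.mem_map.1 (List.mem_toFinset.1 hk)
  simp [h p hp]

/-- a monomial of the expansion -/
def mon (d a b c : ℕ) (e : ℤ) : List ((ℕ × List ℕ) × ℤ) :=
  if e = 0 then [] else [((d, [a, b, c].insertionSort (· ≤ ·)), e)]

/-- the terms of positive degree in the expansion of one monomial -/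
def expand1 (r : ℕ) (t : ℕ × ℕ × ℕ × ℤ) : List ((ℕ × List ℕ) × ℤ) :=
  let a := t.1; let b := t.2.1; let c := t.2.2.1; let e := t.2.2.2
  mon 1 (src r a) b c (e * sg r a) ++ mon 1 a (src r b) c (e * sg r b) ++ mon 1 a b (src r c) (e * sg r c) ++
  mon 2 (src r a) (src r b) c (e * sg r a * sg r b) ++ mon 2 (src r a) b (src r c) (e * sg r a * sg r c) ++
  mon 2 a (src r b) (src r c) (e * sg r b * sg r c) ++
  mon 3 (src r a) (src r b) (src r c) (e * sg r a * sg r b * sg r c)

/-- the expansion vanishes -/
def InvOK (r : ℕ) : Prop := ∀ p ∈ L45.flatMap (expand1 r), coef p.1 (L45.flatMap (expand1 r)) = 0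

instance decInvOK (r : ℕ) : Decidable (InvOK r) := by unfold InvOK; infer_instance

theorem chk_inv : ∀ i : Nd chevE6, InvOK (chevE6.simple i) ∧ InvOK (71 - chevE6.simple i) := by
  decide +kernel

theorem cubicT_x {r : ℕ} (hr : InvOK r) (t : F) (v : I27 → F) :
    cubicT ((1 + t • N F r) *ᵥ v) = cubicT v := by
  have h := sum_eq_zero_of_coef (fun k => t ^ k.1 * (k.2.map fun n => cv n v).prod) _ hr
  have hm : ∀ d a b c e, ((mon d a b c e).map fun p => (p.2 : F) *
      (t ^ p.1.1 * (p.1.2.map fun n => cv n v).prod)).sum = e * (t ^ d * (cv a v * cv b v * cv c v)) := by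
    intro d a b c e
    unfold mon
    split_ifs with he
    · simp [he]
    · simp only [List.map_cons, List.map_nil, List.sum_cons, List.sum_nil,
        ((List.perm_insertionSort (· ≤ ·) [a, b, c]).map _).prod_eq, List.prod_cons, List.prod_nil]
      ring
  rw [cubicT_eq, cubicT_eq, tril_apply, tril_apply, ← add_zero (List.sum (List.map (fun t => _ * (cv _ v * _ * _)) L45)),
    ← h]
  have hL := chk_L45
  generalize L45 = L at hL
  induction L with
  | nil => simp
  | cons q L ih =>
    obtain ⟨h1, h2, h3, -⟩ := hL q List.mem_cons_self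
    rw [List.map_cons, List.sum_cons, ih fun q hq => hL q (List.mem_cons_of_mem _ hq)]
    simp only [List.map_cons, List.sum_cons, List.flatMap_cons, List.map_append, List.sum_append, expand1, hm]
    simp only [add_mulVec, smul_mulVec, one_mulVec, map_add, map_smul, cv_N _ h1, cv_N _ h2, cv_N _ h3,
      smul_eq_mul]
    push_cast
    ring

end CA.E6C
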