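import Cfsg.Agent.Lib.Chev.RootCheck
import Cfsg.Prelude.Def_ChevD4

/-! Fast tables and root combinatorics for type D4 (generated). -/

set_option autoImplicit false
set_option maxRecDepth 100000

namespace CA.Chev

open Cfsg.Lie

/-- fast tables for type D4 -/
def tabD4 : Tab where
  n := 24
  w := 12
  wm := 0xfff
  rw := 288
  rm := 0xffffffffffffffffffffffffffffffffffffffffffffffffffffffffffffffffffffffff
  off := 2130440
  caT := 0x89797897978a6897978979788997789977a8869977899778978897899a7799677897889789999a777788889999677778
  coT := 0x998988989889788787887877999888998898878877888777a99998999988887777877776999999888888888888777777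
  rcT := 0x998988989889788787887877999888998898878877888777a99998999988887777877776999999888888888888777777
  rfT := 0x17151613141210110e0f0d0b0c0a080906070503040102001714131615120f0e11100a0c0b0d07060908050201040300161715141213110d0c09100f08070e0b0a060405030200011711100f0e05161514130d0c0b0a04030201120908070600
  sgT := 0x52994a6324c6887e1107c3e0
  wcT := 0x20824800000000002491c900000000001c9209000000000024720900000000001c724900000000002081ca000000000024920700000000001c9247000000000024724700000000001c7287000000000020a1c800000000002881c800000000001882480000000000206248000000000024918900000000001c91c900000000002471c900000000001c7209000000000020824600000000002491c700000000001c9207000000000024720700000000001c724700000000002081c8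
  chT := 0xb30ad0a509b00008d08307b0750000000000000000000000000000000bb0000000ab0a300000000009308d00006d06500004d0000000000000000000000000bd0000000b300009b00000009300008506d00000005d0430000000000000000000000bd0000000b300009b00000009300000007d06500000005503b0000000000000000000bb0000000000ab0a300000009300000000007500005d0550000350000000000000000000b30ab0a309b00000000000000000000000000004d04503d0350000000000000000bd0b500000000000000000008307b00006d06500000000000000002b0230000000000bb0000ad00000000000000008b00007306d00000005d00000000002b00001d0000000bb0000000a500000000000008b00007300006500000005500000002b0000000150000bd00000000009d00000000000008307b00000000005d05500000002b00000000000b0000000000b50ad00000000008d08500000000000000000004b04300000000002301b0000000000b50000a500000008d00007d00000000000000004b00003b0000000230000130000000ad00009d00000008500007500000000000000004300003300000001b00000b0000000000a509d00000000007d07500000000000000000003b03300000000001300b0000000000b500000000009500000006b06300000000004503d0000000000000230000000000030000ab00000009500000006b00000005b00004d00003500000000000001b0000000050000000a300009500000000006300000005304d00003500000000000000001300000500000000009d09500000000000000005b05300004503d00000000000000000000b00300000000000000008b08307b07300000000000000000000000000002501d01500d00000000000000000008b00006b06300004b00000000002d00000001d01500000000000500000000000000000008506b00000005b04300000002d00000002500000d00000000300000000000000000000007d06300000005303b00002d00000002500000d00000000300000000000000000000000007300005b05300003302d00000000001d01500000000500000000000000000000000000000004b04503d03300002501b01300d000000000000000000000000000000000000000000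

theorem chkAgreeD4 : chkAgree chevD4 tabD4 = true := by decide +kernel

theorem chkChD4 : chkCh chevD4 tabD4 = true := by decide +kernel

theorem chkRfD4 : chkRf chevD4 tabD4 = true := by decide +kernel

theorem agreeD4 : Agree chevD4 tabD4 := agree_of_chk chkAgreeD4 chkChD4 chkRfD4

theorem chk1D4 : chk1 chevD4 tabD4 [0, 0, 1, 1] [0, 1, 2, 2] = true := by decide +kernel

theorem chk2D4 : chk2 chevD4 tabD4 = true := by decide +kernel

theorem chk3D4 : chk3 chevD4 tabD4 [8721, 9250, 4641, 4626] 0x555555555555 2 [[2, 2, 1, 1], [2, 4, 2, 2], [1, 2, 2, 1], [1, 2, 1, 2]] = true := by decide +kernel

theorem chk4D4 : chk4 chevD4 tabD4 = true := by decide +kernel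

instance isRootD4 : IsRoot chevD4 := isRoot_of_chk agreeD4 chk1D4 chk2D4 chk3D4 chk4D4

end CA.Chev
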