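import Cfsg.Agent.Lib.Chev.RootCheck
import Cfsg.Prelude.Def_ChevG2

/-! Fast tables and root combinatorics for type G2 (generated). -/

set_option autoImplicit false
set_option maxRecDepth 100000

namespace CA.Chev

open Cfsg.Lie

/-- fast tables for type G2 -/
def tabG2 : Tab where
  n := 12
  w := 36
  wm := 0xfffffffff
  rw := 432
  rm := 0xffffffffffffffffffffffffffffffffffffffffffffffffffffffffffffffffffffffffffffffffffffffffffffffffffffffffffff
  off := 520
  caT := 0x97897a6978978b97a5b69758
  coT := 0xa9bb8978557699a998877677
  rcT := 0xa99989787776bba998877655
  rfT := 0xa0b090708050603040200010b060809040a010702030500
  sgT := 0x969696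
  wcT := 0x24800000000000001cb0000000000000209000000000000024700000000000001ca0000000000000285000000000000018b000000000000024600000000000001c90000000000000207000000000000024500000000000001c8
  chT := 0x5300000000000000004b00000004500000003500000000000000000000000000000000000000000000000000000000000005b00000000000000004b00000000000000003d00000000000000002d00000000000000000000000000000000005900000005100000000000000000000005904600005703a00000000005b04502505503b01d00000000000000000000000005f00000000000005f04e00000000005b04b03b00000003700000000000003102200000000003502501300000000000000000000000005700005104a00000000005504d04300000000000000000000000002f00002f01e02b01b01300000000000000000000000005d00000000000000000000000004500000000000000000000000000000000002300000000000000000000000000b00000005500000000000000000000000003d00000000000000000000000000000000001b00000000000000000000000000300000000000000000003504304d00003704200000003100000000000000000000b01501d00000000000000901600000000900000000000000000002b03d04d00000000000002903e00000000000000002900501302500000000000000701200000000000000000100000000000000000000b02304300501d03b00000000000000f02600000101a00000000000000000000000000f00000000700000000000000000000000000000000003300000000000000002300000000000000001500000000000000000500000000000000000000000000000000000000000000000000000000000002b00000001b00000001500000000000000000d000000000000000000000000000000000000000000000000000000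

theorem chkAgreeG2 : chkAgree chevG2 tabG2 = true := by decide +kernel

theorem chkChG2 : chkCh chevG2 tabG2 = true := by decide +kernel

theorem chkRfG2 : chkRf chevG2 tabG2 = true := by decide +kernel

theorem agreeG2 : Agree chevG2 tabG2 := agree_of_chk chkAgreeG2 chkChG2 chkRfG2

theorem chk1G2 : chk1 chevG2 tabG2 [0, 0] [0, 1] = true := by decide +kernel

theorem chk2G2 : chk2 chevG2 tabG2 = true := by decide +kernel

theorem chk3G2 : chk3 chevG2 tabG2 [33, 50] 0xf57d5f 1 [[2, 3], [1, 2]] = true := by decide +kernel

theorem chk4G2 : chk4 chevG2 tabG2 = true := by decide +kernel

instance isRootG2 : IsRoot chevG2 := isRoot_of_chk agreeG2 chk1G2 chk2G2 chk3G2 chk4G2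

end CA.Chev
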